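import Mathlib
import Cfsg.Agent.H501.Szep.TorStr
import Cfsg.Agent.H501.Szep.Basic
import Cfsg.Agent.H129.CycT2
import Cfsg.Agent.H129.DataE7m
import Cfsg.Agent.H129.HalfT

/-!
# Szep's conjecture for `E₇(q)` (helper501, S2273)

Three cyclic tori `T₇`, `T₉`, `T₁₄` of orders `(q⁷ - 1)/d`, `(q - 1)(q⁶ + q³ + 1)/d`, `(q⁷ + 1)/d`, each with a prime
`r` such that the centralisers of the elements of order `r` of the torus lie in it. An element `a` of prime order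
commutes with elements of at most one of the three kinds: `T₇` and `T₁₄` have coprime orders, the same holds for `T₉`
and `T₁₄`; the number of roots with value `1` on `a` is `42` or `56` if `a` is in `T₇` and `72` if `a` is in `T₉`.
-/

set_option autoImplicit false
set_option linter.unusedSectionVars false

namespace Cfsg.Agent.H501.SzExc

open Subgroup Cfsg Cfsg.Lie Cfsg.Agent.H129.CycT Cfsg.Agent.H105.Sz Cfsg.Agent.H501.TorStr
open CoxeterSystem Cfsg.Lie.ChevalleyDatum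
open Cfsg.Agent.ChevalleyStructure.CoxeterGeom Cfsg.Agent.ChevalleyStructure.CoxeterGeomTypes
open Cfsg.Agent.Nodes.RGDChev Cfsg.Agent.H129 Cfsg.Agent.H129.TorusChar Cfsg.Agent.H129.TorusTw
  Cfsg.Agent.H129.WData Cfsg.Agent.H129.TorAct Cfsg.Agent.H129.RealT

universe u

/-! ### abstract -/

section Abs

variable {G : Type*} [Group G] [Finite G]

/-- an element commuting with an element of order `r` is conjugate into `T` -/
theorem conj_mem_of_dvd {T : Subgroup G} (hc : IsCyclic ↥T) {r : ℕ} (hr : r.Prime) (hrT : r ∣ Nat.card ↥T)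
    (hcent : ∀ y ∈ T, orderOf y = r → centralizer {y} ≤ T) {a : G}
    (hd : r ∣ Nat.card ↥(centralizer ({a} : Set G))) : ∃ g : G, g * a * g⁻¹ ∈ T := by
  have : Fact r.Prime := ⟨hr⟩
  obtain ⟨⟨x, hxa⟩, hx⟩ := exists_prime_orderOf_dvd_card' r hd
  rw [Subgroup.orderOf_mk] at hx
  obtain ⟨g, -, hg⟩ := centralizer_conj hc hr hrT hcent hx
  exact ⟨g, (hg a).1 (mem_cent.2 (mem_cent.1 hxa).symm)⟩

theorem orderOf_conj (a g : G) : orderOf (g * a * g⁻¹) = orderOf a := by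
  have h3 : g * a * g⁻¹ = MulAut.conj g a := rfl
  rw [h3]
  exact orderOf_injective (MulAut.conj g).toMonoidHom (MulAut.conj g).injective a

theorem orderOf_dvd_of_conj {T : Subgroup G} {a g : G} (h : g * a * g⁻¹ ∈ T) : orderOf a ∣ Nat.card ↥T := by
  rw [← orderOf_conj a g]
  have := orderOf_dvd_natCard (⟨_, h⟩ : ↥T)
  rwa [Subgroup.orderOf_mk] at this

theorem exists_pow_prime {a : G} (ha : a ≠ 1) : ∃ k, (orderOf (a ^ k)).Prime := by
  have h1 : orderOf a ≠ 1 := fun h2 => ha (orderOf_eq_one_iff.1 h2)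
  obtain ⟨r, hr, hrd⟩ := Nat.exists_prime_and_dvd h1
  refine ⟨orderOf a / r, ?_⟩
  rw [orderOf_pow_orderOf_div (orderOf_pos a).ne' hrd]
  exact hr

/-- **Three incompatible primes.** -/
theorem szep_of_three {r s t : ℕ} (hr : r.Prime) (hs : s.Prime) (ht : t.Prime) (hrG : r ∣ Nat.card G)
    (hsG : s ∣ Nat.card G) (htG : t ∣ Nat.card G)
    (h : ∀ a : G, (orderOf a).Prime →
      ¬ (r ∣ Nat.card ↥(centralizer ({a} : Set G)) ∧ s ∣ Nat.card ↥(centralizer ({a} : Set G))) ∧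
      ¬ (r ∣ Nat.card ↥(centralizer ({a} : Set G)) ∧ t ∣ Nat.card ↥(centralizer ({a} : Set G))) ∧
      ¬ (s ∣ Nat.card ↥(centralizer ({a} : Set G)) ∧ t ∣ Nat.card ↥(centralizer ({a} : Set G)))) : Szep G := by
  rw [szep_iff]
  intro a b ha hb hbad
  obtain ⟨k, hk⟩ := exists_pow_prime ha
  obtain ⟨l, hl⟩ := exists_pow_prime hb
  have hbad' := hbad.pow k l
  have h1 := hbad'.dvd_or hr hrG
  have h2 := hbad'.dvd_or hs hsG
  have h3 := hbad'.dvd_or ht htG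
  have h4 := h _ hk
  have h5 := h _ hl
  tauto

end Abs

/-! ### the values of the functional modulo `q - 1` -/

theorem Gq_one_dvd {l : ℕ} (B : Fin l → Fin l → ℤ) (q : ℤ) (x : Fin l → ℤ) : q - 1 ∣ Gq B q x - Gq B 1 x := by
  unfold Gq
  rw [← Finset.sum_sub_distrib]
  refine Finset.dvd_sum fun j _ => ?_
  rw [← mul_sub, ← Finset.sum_sub_distrib]
  refine Dvd.dvd.mul_left (Finset.dvd_sum fun i _ => ?_) _
  rw [← mul_sub]
  refine Dvd.dvd.mul_left ?_ _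
  exact sub_dvd_pow_sub_pow q 1 i

theorem dvd_Gq_iff {l : ℕ} (B : Fin l → Fin l → ℤ) {q : ℤ} {r : ℤ} (hr : r ∣ q - 1) (x : Fin l → ℤ) :
    r ∣ Gq B q x ↔ r ∣ Gq B 1 x :=
  (dvd_iff_dvd_of_dvd_sub (hr.trans (Gq_one_dvd B q x)))

theorem vals7 : ∀ s : Fin chevE7.nroots, Gq DataE7s.B 1 (vec chevE7 7 s) = 0 ∨ Gq DataE7s.B 1 (vec chevE7 7 s) = 1 ∨
    Gq DataE7s.B 1 (vec chevE7 7 s) = -1 ∨ Gq DataE7s.B 1 (vec chevE7 7 s) = 2 ∨
    Gq DataE7s.B 1 (vec chevE7 7 s) = -2 := by decide +kernel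

theorem card7 : (Finset.univ.filter fun s : Fin chevE7.nroots => Gq DataE7s.B 1 (vec chevE7 7 s) = 0).card = 42 := by
  decide +kernel

theorem card7' : (Finset.univ.filter fun s : Fin chevE7.nroots => Gq DataE7s.B 1 (vec chevE7 7 s) = 0 ∨
    Gq DataE7s.B 1 (vec chevE7 7 s) = 2 ∨ Gq DataE7s.B 1 (vec chevE7 7 s) = -2).card = 56 := by
  decide +kernel

theorem vals9 : ∀ s : Fin chevE7.nroots, Gq DataE7n.B 1 (vec chevE7 7 s) = 0 ∨ Gq DataE7n.B 1 (vec chevE7 7 s) = 1 ∨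
    Gq DataE7n.B 1 (vec chevE7 7 s) = -1 := by decide +kernel

theorem card9 : (Finset.univ.filter fun s : Fin chevE7.nroots => Gq DataE7n.B 1 (vec chevE7 7 s) = 0).card = 72 := by
  decide +kernel

theorem not_dvd_one {r : ℕ} (hr : r.Prime) : ¬ (r : ℤ) ∣ 1 := fun h =>
  hr.one_lt.ne' (Nat.dvd_one.1 (by exact_mod_cast h))

theorem count7 {r : ℕ} (hr : r.Prime) {q : ℤ} (hq : (r : ℤ) ∣ q - 1) :
    (Finset.univ.filter fun s : Fin chevE7.nroots => (r : ℤ) ∣ Gq DataE7s.B q (vec chevE7 7 s)).card = 42 ∨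
    (Finset.univ.filter fun s : Fin chevE7.nroots => (r : ℤ) ∣ Gq DataE7s.B q (vec chevE7 7 s)).card = 56 := by
  have h1 := not_dvd_one hr
  have h1' : ¬ (r : ℤ) ∣ -1 := fun h => h1 ((dvd_neg).1 h)
  by_cases h2 : r = 2
  · right
    rw [← card7']
    congr 1
    refine Finset.filter_congr fun s _ => ?_
    rw [dvd_Gq_iff DataE7s.B hq]
    have h3 := vals7 s
    generalize Gq DataE7s.B 1 (vec chevE7 7 s) = v at h3 ⊢
    subst h2
    rcases h3 with rfl | rfl | rfl | rfl | rfl <;> norm_num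
  · left
    rw [← card7]
    congr 1
    refine Finset.filter_congr fun s _ => ?_
    rw [dvd_Gq_iff DataE7s.B hq]
    have h3 := vals7 s
    have h4 : ¬ (r : ℤ) ∣ 2 := by
      intro h
      exact h2 ((Nat.prime_dvd_prime_iff_eq hr Nat.prime_two).1 (by exact_mod_cast h))
    have h4' : ¬ (r : ℤ) ∣ -2 := fun h => h4 ((dvd_neg).1 h)
    generalize Gq DataE7s.B 1 (vec chevE7 7 s) = v at h3 ⊢
    rcases h3 with rfl | rfl | rfl | rfl | rfl
    · simp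
    · simp [h1]
    · simp only [h1', false_iff]; norm_num
    · simp only [h4, false_iff]; norm_num
    · simp only [h4', false_iff]; norm_num

theorem count9 {r : ℕ} (hr : r.Prime) {q : ℤ} (hq : (r : ℤ) ∣ q - 1) :
    (Finset.univ.filter fun s : Fin chevE7.nroots => (r : ℤ) ∣ Gq DataE7n.B q (vec chevE7 7 s)).card = 72 := by
  have h1 := not_dvd_one hr
  have h1' : ¬ (r : ℤ) ∣ -1 := fun h => h1 ((dvd_neg).1 h)
  rw [← card9]
  congr 1
  refine Finset.filter_congr fun s _ => ?_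
  rw [dvd_Gq_iff DataE7n.B hq]
  have h3 := vals9 s
  generalize Gq DataE7n.B 1 (vec chevE7 7 s) = v at h3 ⊢
  rcases h3 with rfl | rfl | rfl
  · simp
  · simp only [h1, false_iff]; norm_num
  · simp only [h1', false_iff]; norm_num

/-! ### the tori -/

section Tori

variable {F : Type u} [Field F] [Fintype F] {q : ℕ}

theorem e7_tor [Finite CoxeterMatrix.E₇.Group] (hq : Fintype.card F = q)
    {A : Mat 7} (hA : ∀ i j, A i j = cartanOf chevE7 7 i j) {L : List (Fin 7 × Mat 7)} (hL : ChainOK A L)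
    {V B : Mat 7} {c : Fin 7 → ℤ} (hcyc : CycOK 7 (hd L) V B c) {m : ℕ} {R : Fin m → Fin 7 → ℤ} {prv dep : ℕ → ℕ}
    (hR : RootOK chevE7 7 (hd L) R prv dep) {N : ℕ} (hfN : fN c (q : ℤ) = N) (hqN : q.Coprime N)
    {r : ℕ} (hr : r.Prime) (hrN : r ∣ N) (hr2 : r ≠ 2)
    (hgood : ¬ r ∣ Nat.card CoxeterMatrix.E₇.Group ∧ ∀ s, ¬ (r : ℤ) ∣ Gq B (q : ℤ) (R s)) :
    ∃ T : Subgroup ↥(chevE7.group F), IsCyclic ↥T ∧ r ∣ Nat.card ↥T ∧
      (∀ y ∈ T, orderOf y = r → centralizer {y} ≤ T) ∧ Nat.card ↥T ∣ N ∧ (Odd q → 2 * Nat.card ↥T = N) ∧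
      (∀ s : ℕ, s.Prime → ∀ y ∈ T, orderOf y = s →
        HasCnt typeE7 y (Finset.univ.filter fun i : Fin chevE7.nroots => (s : ℤ) ∣ Gq B (q : ℤ) (vec chevE7 7 i)).card) := by
  have hfin : Finite ↥(chevE7.group F) := by
    have : Finite (GL chevE7.Idx F) := inferInstance
    infer_instance
  have : Fact r.Prime := ⟨hr⟩
  obtain ⟨T, h1, h2, h3, h4, h5⟩ := untw_str typeE7 CoxeterMatrix.E₇.toCoxeterSystem (by norm_num) hq
    TorusChar.invC_E7 (by norm_num) hA hL hcyc hR hfN hqN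
  have hrT : r ∣ Nat.card ↥T := dvd_of_dvd_mul hr hrN
    (fun h => hr2 ((Nat.prime_dvd_prime_iff_eq hr Nat.prime_two).1 h)) h3
  have hcent : ∀ y ∈ T, orderOf y = r → centralizer {y} ≤ T := h4 r hr hgood.1 hgood.2
  refine ⟨T, h1, hrT, hcent, h2, fun hodd => ?_, h5⟩
  obtain ⟨T', i1, i2, i3, -⟩ := HalfT.half_E7 hq hodd typeE7 hA hL hcyc hR hfN hqN
  have hrT' : r ∣ Nat.card ↥T' := by
    rcases hr.dvd_mul.1 (i2 ▸ hrN : r ∣ 2 * Nat.card ↥T') with h | h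
    · exact absurd ((Nat.prime_dvd_prime_iff_eq hr Nat.prime_two).1 h) hr2
    · exact h
  obtain ⟨⟨y, hy⟩, hyr⟩ := exists_prime_orderOf_dvd_card' (G := ↥T) r hrT
  rw [Subgroup.orderOf_mk] at hyr
  obtain ⟨f, hf⟩ := exists_hom h1 hr hrT hcent hyr
  obtain ⟨f', hf'⟩ := exists_hom i1 hr hrT' (i3 r hr hgood.1 hgood.2) hyr
  have e1 := Nat.card_congr (Equiv.ofBijective f hf)
  have e2 := Nat.card_congr (Equiv.ofBijective f' hf')
  rw [← e1, e2]
  exact i2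

end Tori

/-! ### primes -/

theorem exists_prime_of_sq {P c : ℕ} (hc : c.Prime) (h1 : c < P) (h2 : ¬ c ^ 2 ∣ P) :
    ∃ r : ℕ, r.Prime ∧ r ∣ P ∧ r ≠ c := by
  by_contra hno
  push Not at hno
  have h4 : P = c ^ P.primeFactorsList.length :=
    Nat.eq_prime_pow_of_unique_prime_dvd (by have := hc.pos; omega) fun {d} hd hd' => hno d hd hd'
  have h5 : P.primeFactorsList.length < 2 := by
    by_contra h6
    apply h2
    rw [h4]
    exact pow_dvd_pow c (by omega)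
  have h7 : c ^ P.primeFactorsList.length ≤ c := by
    rcases (show P.primeFactorsList.length = 0 ∨ P.primeFactorsList.length = 1 by omega) with h | h
    · rw [h, pow_zero]; exact hc.one_lt.le
    · rw [h, pow_one]
  omega

theorem prime7 {q N : ℕ} (hq : 2 ≤ q) (hN : (N : ℤ) = 1 + (q : ℤ) + (q : ℤ) ^ 2 + (q : ℤ) ^ 3 + (q : ℤ) ^ 4 +
    (q : ℤ) ^ 5 + (q : ℤ) ^ 6) : ∃ r : ℕ, r.Prime ∧ r ∣ N ∧ r ≠ 7 := by
  refine exists_prime_of_sq (by norm_num) ?_ ?_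
  · have h1 : N = 1 + q + q ^ 2 + q ^ 3 + q ^ 4 + q ^ 5 + q ^ 6 := by exact_mod_cast hN
    have h2 : 2 ^ 6 ≤ q ^ 6 := Nat.pow_le_pow_left hq 6
    omega
  · intro h
    have h3 := zmod_of_dvd hN h
    push_cast at h3
    change (1 + (q : ZMod 49) + (q : ZMod 49) ^ 2 + (q : ZMod 49) ^ 3 + (q : ZMod 49) ^ 4 + (q : ZMod 49) ^ 5 +
      (q : ZMod 49) ^ 6 = 0) at h3
    generalize (q : ZMod 49) = x at h3; revert h3; revert x; decide

theorem prime9 {q N : ℕ} (hq : 2 ≤ q) (hN : (N : ℤ) = 1 + (q : ℤ) ^ 3 + (q : ℤ) ^ 6) :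
    ∃ r : ℕ, r.Prime ∧ r ∣ N ∧ r ≠ 3 := by
  refine exists_prime_of_sq (by norm_num) ?_ ?_
  · have h1 : N = 1 + q ^ 3 + q ^ 6 := by exact_mod_cast hN
    have h2 : 2 ^ 6 ≤ q ^ 6 := Nat.pow_le_pow_left hq 6
    omega
  · exact fun h => (primes_9 hN).1 (by norm_num at h; exact h)

theorem prime14 {q N : ℕ} (hq : 2 ≤ q) (hN : (N : ℤ) = 1 - (q : ℤ) + (q : ℤ) ^ 2 - (q : ℤ) ^ 3 + (q : ℤ) ^ 4 -
    (q : ℤ) ^ 5 + (q : ℤ) ^ 6) : ∃ r : ℕ, r.Prime ∧ r ∣ N ∧ r ≠ 7 := by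
  refine exists_prime_of_sq (by norm_num) ?_ ?_
  · have h1 : (2 : ℤ) ≤ q := by exact_mod_cast hq
    have h2 : (7 : ℤ) < N := by
      have e : (N : ℤ) = 1 + (q : ℤ) * ((q : ℤ) - 1) * (1 + (q : ℤ) ^ 2 + (q : ℤ) ^ 4) := by rw [hN]; ring
      have h3 : (2 : ℤ) ≤ (q : ℤ) * ((q : ℤ) - 1) := by nlinarith
      have h4 : (4 : ℤ) ≤ (q : ℤ) ^ 2 := by nlinarith
      have h5 : (16 : ℤ) ≤ (q : ℤ) ^ 4 := by nlinarith
      nlinarith
    exact_mod_cast h2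
  · intro h
    have h3 := zmod_of_dvd hN h
    push_cast at h3
    change (1 - (q : ZMod 49) + (q : ZMod 49) ^ 2 - (q : ZMod 49) ^ 3 + (q : ZMod 49) ^ 4 - (q : ZMod 49) ^ 5 +
      (q : ZMod 49) ^ 6 = 0) at h3
    generalize (q : ZMod 49) = x at h3; revert h3; revert x; decide

theorem primes_14 {q N : ℕ} (hN : (N : ℤ) = 1 - (q : ℤ) + (q : ℤ) ^ 2 - (q : ℤ) ^ 3 + (q : ℤ) ^ 4 - (q : ℤ) ^ 5 +
    (q : ℤ) ^ 6) {r : ℕ} (hrN : r ∣ N) : r ≠ 2 ∧ r ≠ 3 ∧ r ≠ 5 := by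
  have hz : ∀ n : ℕ, n ∣ N → (1 - (q : ZMod n) + (q : ZMod n) ^ 2 - (q : ZMod n) ^ 3 + (q : ZMod n) ^ 4 -
      (q : ZMod n) ^ 5 + (q : ZMod n) ^ 6 = 0) := by
    intro n h
    have := zmod_of_dvd hN h
    push_cast at this
    exact this
  refine ⟨?_, ?_, ?_⟩
  · rintro rfl
    have h3 := hz 2 hrN
    generalize (q : ZMod 2) = x at h3; revert h3; revert x; decide
  · rintro rfl
    have h3 := hz 3 hrN
    generalize (q : ZMod 3) = x at h3; revert h3; revert x; decide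
  · rintro rfl
    have h3 := hz 5 hrN
    generalize (q : ZMod 5) = x at h3; revert h3; revert x; decide

theorem good_E7_14 {q N : ℕ} (hN : (N : ℤ) = 1 - (q : ℤ) + (q : ℤ) ^ 2 - (q : ℤ) ^ 3 + (q : ℤ) ^ 4 - (q : ℤ) ^ 5 +
    (q : ℤ) ^ 6) {r : ℕ} (hr : r.Prime) (hrN : r ∣ N) (hr7 : r ≠ 7) :
    ¬ r ∣ Nat.card CoxeterMatrix.E₇.Group ∧ ∀ s, ¬ (r : ℤ) ∣ Gq DataE7m.B (q : ℤ) (DataE7m.R s) := by
  obtain ⟨h2, h3, h5⟩ := primes_14 hN hrN
  refine ⟨not_dvd_W7 hr h2 h3 h5 hr7, fun s hs => ?_⟩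
  rcases DataE7m.dvd_of_G (cast_dvd hN hrN) s hs with h | h | h
  · exact not_one hr h
  · exact not_prime hr Nat.prime_two h2 h
  · exact not_prime hr (by norm_num : (7 : ℕ).Prime) hr7 h

/-! ### the theorem -/

section Main

variable {F : Type u} [Field F] [Fintype F]

theorem zmod_pow_eq {s q k N : ℕ} (hs : s ∣ N) (hN : N ∣ q ^ k - 1) (hq : 1 ≤ q) : (q : ZMod s) ^ k = 1 := by
  have h1 : s ∣ q ^ k - 1 := hs.trans hN
  have h2 := (ZMod.natCast_eq_zero_iff _ _).2 h1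
  rw [Nat.cast_sub (Nat.one_le_pow _ _ hq)] at h2
  push_cast at h2
  exact sub_eq_zero.1 h2

theorem e7 : Szep ↥(chevE7.group F) := by
  have hfinW := finite_W7
  have hfin : Finite ↥(chevE7.group F) := by
    have : Finite (GL chevE7.Idx F) := inferInstance
    infer_instance
  obtain ⟨q, hq⟩ : ∃ q, Fintype.card F = q := ⟨_, rfl⟩
  have hq2 : 2 ≤ q := by rw [← hq]; exact Fintype.one_lt_card
  -- the numbers
  obtain ⟨M7, hM7⟩ : ∃ N : ℕ, (N : ℤ) = 1 + (q : ℤ) + (q : ℤ) ^ 2 + (q : ℤ) ^ 3 + (q : ℤ) ^ 4 +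
    (q : ℤ) ^ 5 + (q : ℤ) ^ 6 := ⟨1 + q + q ^ 2 + q ^ 3 + q ^ 4 + q ^ 5 + q ^ 6, by push_cast; ring⟩
  obtain ⟨M9, hM9⟩ : ∃ N : ℕ, (N : ℤ) = 1 + (q : ℤ) ^ 3 + (q : ℤ) ^ 6 := ⟨1 + q ^ 3 + q ^ 6, by push_cast; ring⟩
  obtain ⟨M14, hM14⟩ : ∃ N : ℕ, (N : ℤ) = 1 - (q : ℤ) + (q : ℤ) ^ 2 - (q : ℤ) ^ 3 + (q : ℤ) ^ 4 -
      (q : ℤ) ^ 5 + (q : ℤ) ^ 6 := by
    refine ⟨1 + (q ^ 2 - q ^ 1) + (q ^ 4 - q ^ 3) + (q ^ 6 - q ^ 5), ?_⟩
    have h1 : ∀ i : ℕ, q ^ i ≤ q ^ (i + 1) := fun i => Nat.pow_le_pow_right (by omega) (by omega)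
    push_cast [Nat.cast_sub (h1 1), Nat.cast_sub (h1 3), Nat.cast_sub (h1 5)]
    ring
  have hq1 : 1 ≤ q := by omega
  have e7 : (q - 1) * M7 = q ^ 7 - 1 := by
    have h1 : (((q - 1) * M7 : ℕ) : ℤ) = ((q ^ 7 - 1 : ℕ) : ℤ) := by
      rw [Nat.cast_sub (Nat.one_le_pow _ _ hq1)]
      push_cast [Nat.cast_sub hq1]
      rw [hM7]; ring
    exact_mod_cast h1
  have e14 : (q + 1) * M14 = q ^ 7 + 1 := by
    have h1 : (((q + 1) * M14 : ℕ) : ℤ) = ((q ^ 7 + 1 : ℕ) : ℤ) := by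
      push_cast
      rw [hM14]; ring
    exact_mod_cast h1
  have e9 : (q - 1) * M9 ∣ q ^ 9 - 1 := by
    refine ⟨q ^ 2 + q + 1, ?_⟩
    have h1 : ((q ^ 9 - 1 : ℕ) : ℤ) = (((q - 1) * M9 * (q ^ 2 + q + 1) : ℕ) : ℤ) := by
      rw [Nat.cast_sub (Nat.one_le_pow _ _ hq1)]
      push_cast [Nat.cast_sub hq1]
      rw [hM9]; ring
    exact_mod_cast h1
  obtain ⟨r7, hr7, hrM7, hr77⟩ := prime7 hq2 hM7
  obtain ⟨r9, hr9, hrM9, hr93⟩ := prime9 hq2 hM9
  obtain ⟨r14, hr14, hrM14, hr147⟩ := prime14 hq2 hM14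
  obtain ⟨f7, c7⟩ := fN_7 hq2 hM7
  obtain ⟨f9, c9⟩ := fN_9 hq2 hM9
  obtain ⟨T7, a1, a2, a3, a4, a5, a6⟩ := e7_tor hq DataE7s.hA DataE7s.chainOK DataE7s.cycOK DataE7s.rootOK f7 c7
    hr7 (hrM7.mul_left _) (primes_7 hM7 hrM7).1 (good_E7_7 hM7 hr7 hrM7 hr77)
  obtain ⟨T9, b1, b2, b3, b4, b5, b6⟩ := e7_tor hq DataE7n.hA DataE7n.chainOK DataE7n.cycOK DataE7n.rootOK f9 c9
    hr9 (hrM9.mul_left _) ((primes_9 hM9).2 hrM9).1 (good_E7_9 hM9 hr9 hrM9 hr93)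
  obtain ⟨T14, d1, d2, d3, d4, d5, d6⟩ := e7_tor hq DataE7m.hA DataE7m.chainOK DataE7m.cycOK DataE7m.rootOK
    (N := (q + 1) * M14) (by
      rw [DataE7m.fN_eq]
      push_cast
      rw [hM14]; ring) (UntwData.coprime_of_eq (a := (q : ℤ) ^ 6) (by push_cast; rw [hM14]; ring))
    hr14 (hrM14.mul_left _) (primes_14 hM14 hrM14).1 (good_E7_14 hM14 hr14 hrM14 hr147)
  refine szep_of_three hr7 hr9 hr14 (a2.trans (card_subgroup_dvd_card _)) (b2.trans (card_subgroup_dvd_card _))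
    (d2.trans (card_subgroup_dvd_card _)) fun a ha => ?_
  have : Fact (orderOf a).Prime := ⟨ha⟩
  have k7 : r7 ∣ Nat.card ↥(centralizer ({a} : Set ↥(chevE7.group F))) → ∃ g, g * a * g⁻¹ ∈ T7 :=
    conj_mem_of_dvd a1 hr7 a2 a3
  have k9 : r9 ∣ Nat.card ↥(centralizer ({a} : Set ↥(chevE7.group F))) → ∃ g, g * a * g⁻¹ ∈ T9 :=
    conj_mem_of_dvd b1 hr9 b2 b3
  have k14 : r14 ∣ Nat.card ↥(centralizer ({a} : Set ↥(chevE7.group F))) → ∃ g, g * a * g⁻¹ ∈ T14 :=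
    conj_mem_of_dvd d1 hr14 d2 d3
  rw [e7] at a4 a5
  rw [e14] at d4 d5
  refine ⟨fun ⟨h1, h2⟩ => ?_, fun ⟨h1, h2⟩ => ?_, fun ⟨h1, h2⟩ => ?_⟩
  · -- `T₇` and `T₉`
    obtain ⟨g, hg⟩ := k7 h1
    obtain ⟨h, hh⟩ := k9 h2
    have e1 := zmod_pow_eq (orderOf_dvd_of_conj hg) a4 (by omega)
    have e2 := zmod_pow_eq (orderOf_dvd_of_conj hh) (b4.trans e9) (by omega)
    have e3 : (q : ZMod (orderOf a)) = 1 := by
      have e4 : (q : ZMod (orderOf a)) ^ 28 = 1 := by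
        rw [show 28 = 7 * 4 by norm_num, pow_mul, e1, one_pow]
      have e5 : (q : ZMod (orderOf a)) ^ 27 = 1 := by
        rw [show 27 = 9 * 3 by norm_num, pow_mul, e2, one_pow]
      rw [pow_succ, e5, one_mul] at e4
      exact e4
    have e6 : (orderOf a : ℤ) ∣ (q : ℤ) - 1 := by
      rw [← ZMod.intCast_zmod_eq_zero_iff_dvd]
      push_cast
      rw [e3, sub_self]
    have u7 := a6 _ ha _ hg (orderOf_conj a g)
    have u9 := b6 _ ha _ hh (orderOf_conj a h)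
    rw [count9 ha e6] at u9
    rcases count7 ha e6 with h3 | h3
    · rw [h3] at u7
      exact absurd ((u7.conj typeE7 g).unique typeE7 (u9.conj typeE7 h)) (by norm_num)
    · rw [h3] at u7
      exact absurd ((u7.conj typeE7 g).unique typeE7 (u9.conj typeE7 h)) (by norm_num)
  · -- `T₇` and `T₁₄`
    obtain ⟨g, hg⟩ := k7 h1
    obtain ⟨h, hh⟩ := k14 h2
    have e1 := orderOf_dvd_of_conj hg
    have e2 := orderOf_dvd_of_conj hh
    have hp7 : 1 ≤ q ^ 7 := Nat.one_le_pow _ _ (by omega)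
    rcases Nat.even_or_odd q with hev | hodd
    · have e3 := e1.trans a4
      have e4 := e2.trans d4
      have e5 : orderOf a ∣ 2 := by
        have := Nat.dvd_sub e4 e3
        rwa [show q ^ 7 + 1 - (q ^ 7 - 1) = 2 by omega] at this
      rw [Nat.dvd_prime Nat.prime_two] at e5
      rcases e5 with e5 | e5
      · exact ha.one_lt.ne' e5
      · rw [e5] at e4
        have h6 : 2 ∣ q ^ 7 := dvd_pow (even_iff_two_dvd.1 hev) (by norm_num)
        omega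
    · have h5 := a5 hodd
      have h6 := d5 hodd
      have h7 : Nat.card ↥T14 = Nat.card ↥T7 + 1 := by omega
      rw [h7] at e2
      have h8 := (Nat.dvd_add_right e1).1 e2
      exact ha.one_lt.ne' (Nat.dvd_one.1 h8)
  · -- `T₉` and `T₁₄`
    obtain ⟨g, hg⟩ := k9 h1
    obtain ⟨h, hh⟩ := k14 h2
    have e1 := zmod_pow_eq (orderOf_dvd_of_conj hg) (b4.trans e9) (by omega)
    have e2 := (orderOf_dvd_of_conj hh).trans d4
    have hp7 : 1 ≤ q ^ 7 := Nat.one_le_pow _ _ (by omega)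
    have e3 : (q : ZMod (orderOf a)) ^ 7 = -1 := by
      have := (ZMod.natCast_eq_zero_iff _ _).2 e2
      push_cast at this
      exact eq_neg_of_add_eq_zero_left this
    have e4 : (q : ZMod (orderOf a)) = 1 := by
      have e5 : (q : ZMod (orderOf a)) ^ 28 = 1 := by
        rw [show 28 = 7 * 4 by norm_num, pow_mul, e3]
        norm_num
      have e6 : (q : ZMod (orderOf a)) ^ 27 = 1 := by
        rw [show 27 = 9 * 3 by norm_num, pow_mul, e1, one_pow]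
      rw [pow_succ, e6, one_mul] at e5
      exact e5
    have e7' : orderOf a = 2 := by
      rw [e4, one_pow] at e3
      have e8 : ((2 : ℕ) : ZMod (orderOf a)) = 0 := by
        push_cast
        have : (2 : ZMod (orderOf a)) = 1 + 1 := by norm_num
        rw [this]
        nth_rewrite 1 [e3]
        ring
      have e9 := (ZMod.natCast_eq_zero_iff _ _).1 e8
      exact (Nat.prime_dvd_prime_iff_eq ha Nat.prime_two).1 e9
    rcases Nat.even_or_odd q with hev | hodd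
    · rw [e7'] at e2
      have h6 : 2 ∣ q ^ 7 := dvd_pow (even_iff_two_dvd.1 hev) (by norm_num)
      omega
    · have h5 := b5 hodd
      have h6 := d5 hodd
      have h7 := orderOf_dvd_of_conj hg
      have h8 := orderOf_dvd_of_conj hh
      rw [e7'] at h7 h8
      -- `4 ∣ (q - 1) M9`, `4 ∣ q ^ 7 + 1`
      have h9 : 4 ∣ (q - 1) * M9 := by
        rw [← h5]
        exact mul_dvd_mul_left 2 h7
      have h10 : 4 ∣ q ^ 7 + 1 := by
        rw [← h6]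
        exact mul_dvd_mul_left 2 h8
      have hM9odd : ¬ 2 ∣ M9 := fun h => ((primes_9 hM9).2 h).1 rfl
      have h11 : 4 ∣ q - 1 := by
        have hco : Nat.Coprime 4 M9 := by
          rw [show 4 = 2 ^ 2 by norm_num]
          exact Nat.Coprime.pow_left 2 ((Nat.Prime.coprime_iff_not_dvd Nat.prime_two).2 hM9odd)
        exact hco.dvd_of_dvd_mul_right h9
      have h12 : (q : ZMod 4) = 1 := by
        have := (ZMod.natCast_eq_zero_iff _ _).2 h11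
        rw [Nat.cast_sub (by omega), Nat.cast_one] at this
        exact sub_eq_zero.1 this
      have h13 := (ZMod.natCast_eq_zero_iff _ _).2 h10
      push_cast at h13
      rw [h12] at h13
      revert h13
      decide

end Main

theorem szep_E7 {G : Type*} [Group G] (h : IsoE7 G) : Szep G := by
  obtain ⟨F, _, _, ⟨e⟩⟩ := h
  exact Szep.of_equiv e e7

end Cfsg.Agent.H501.SzExc
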