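import Mathlib
import Cfsg.Agent.H501.Szep.Basic
import Cfsg.Agent.H934.HeisF4G2
import Cfsg.Agent.H934.HeisF4Even
import Cfsg.Agent.H934.HeisE6
import Cfsg.Agent.H934.HeisE8
import Cfsg.Agent.H934.HeisTwE6
import Cfsg.Agent.H934.HeisTwD4
import Cfsg.Agent.H934.HeisTwF4
import Cfsg.Agent.H129.IsoTw
import Cfsg.Agent.S0333
import Cfsg.Agent.S0324
import Cfsg.Agent.OddCyclic.ClaimC.SzIso
import Cfsg.Agent.S1158
import Cfsg.Agent.S1159
import Cfsg.Agent.S1059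
import Cfsg.Agent.S1068
import Cfsg.Agent.H94.RankOne

/-!
# Szep's conjecture for the exceptional groups of Lie type, except `E₇` (helper501, S2273)
-/

set_option autoImplicit false
set_option linter.unusedSectionVars false

namespace Cfsg.Agent.H501.SzExc

open Subgroup Cfsg Cfsg.Lie Cfsg.Agent.H129.CycT Cfsg.Agent.H105.Sz

/-- transport to the model -/
theorem of_model {G L : Type*} [Group G] [Group L] [IsSimpleGroup G] (hG : ¬ IsMulCommutative G)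
    (e : G ≃* L) (h : IsSimpleGroup L → ¬ IsMulCommutative L → Szep L) : Szep G := by
  have h1 : IsSimpleGroup L := e.symm.isSimpleGroup
  refine Szep.of_equiv e (h h1 fun hc => hG ?_)
  rw [isMulCommutative_iff] at hc ⊢
  intro a b
  apply e.injective
  rw [map_mul, map_mul, hc]

theorem sq_lt {a b : ℕ} (h : a ^ 2 < b ^ 2) : a < b := lt_of_pow_lt_pow_left₀ 2 (Nat.zero_le _) h

section Num

/-- `q^4 - q^2 + 1 ≤ q^4` -/
theorem n12_le {q N : ℕ} (hq : 2 ≤ q) (hN : (N : ℤ) = 1 - (q : ℤ) ^ 2 + (q : ℤ) ^ 4) : 1 < N ∧ N ≤ q ^ 4 := by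
  have h1 : (4 : ℤ) ≤ (q : ℤ) ^ 2 := by
    have : (2 : ℤ) ≤ q := by exact_mod_cast hq
    nlinarith
  have h2 : (N : ℤ) = 1 + (q : ℤ) ^ 2 * ((q : ℤ) ^ 2 - 1) := by rw [hN]; ring
  constructor
  · have : (1 : ℤ) < N := by nlinarith
    exact_mod_cast this
  · have : (N : ℤ) ≤ (q : ℤ) ^ 4 := by rw [hN]; linarith
    exact_mod_cast this

end Num

/-! ### `G₂` -/

section

variable {F : Type} [Field F] [Fintype F]

theorem finite_chev (D : ChevalleyDatum) : Finite ↥(D.group F) := by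
  have : Finite (GL D.Idx F) := inferInstance
  infer_instance

theorem g2 (hF : 3 ≤ Fintype.card F) (hs : IsSimpleGroup ↥(chevG2.group F))
    (hna : ¬ IsMulCommutative ↥(chevG2.group F)) : Szep ↥(chevG2.group F) := by
  have := finite_chev (F := F) chevG2
  set q := Fintype.card F with hq
  obtain ⟨N3, hN3⟩ : ∃ N : ℕ, (N : ℤ) = 1 + (q : ℤ) + (q : ℤ) ^ 2 := ⟨1 + q + q ^ 2, by push_cast; ring⟩
  obtain ⟨N6, hN6⟩ : ∃ N : ℕ, (N : ℤ) = 1 - (q : ℤ) + (q : ℤ) ^ 2 := by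
    refine ⟨q ^ 2 - q + 1, ?_⟩
    have : q ≤ q ^ 2 := by nlinarith
    push_cast [Nat.cast_sub this]
    ring
  have hq' : (3 : ℤ) ≤ q := by exact_mod_cast hF
  have h3lt : 1 < N3 := by
    have : (1 : ℤ) < N3 := by rw [hN3]; nlinarith
    exact_mod_cast this
  have h6lt : 1 < N6 := by
    have : (1 : ℤ) < N6 := by rw [hN6]; nlinarith
    exact_mod_cast this
  have h3le : N3 < q ^ 3 := by
    have : (N3 : ℤ) < (q : ℤ) ^ 3 := by rw [hN3]; nlinarith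
    exact_mod_cast this
  have h6le : N6 < q ^ 3 := by
    have : (N6 : ℤ) < (q : ℤ) ^ 3 := by rw [hN6]; nlinarith
    exact_mod_cast this
  have hidx : (3 : F) ≠ 0 → ∀ H : Subgroup ↥(chevG2.group F), H ≠ ⊤ → q ^ 3 ≤ H.index := by
    intro h3 H hH
    have h1 := H934.HeisF4G2.sq_le_G2 h3 hs H hH
    rw [← hq] at h1
    have h2 : (q ^ 3) ^ 2 ≤ H.index ^ 2 := by
      calc (q ^ 3) ^ 2 = q ^ 6 := by ring
        _ ≤ _ := h1
    exact (Nat.pow_le_pow_iff_left (by norm_num)).1 h2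
  have hmod3 : (3 : F) ≠ 0 → ¬ 3 ∣ q := by
    intro h3 hd
    obtain ⟨p, hp⟩ := CharP.exists F
    obtain ⟨n, hpp, hn⟩ := FiniteField.card F p
    rw [← hq] at hn
    rw [hn] at hd
    have h1 := (Nat.prime_dvd_prime_iff_eq Nat.prime_three hpp).1 (Nat.prime_three.dvd_of_dvd_pow hd)
    apply h3
    have h2 : ((3 : ℕ) : F) = 0 := by
      rw [h1]
      exact CharP.cast_eq_zero F p
    exact_mod_cast h2
  by_cases h3 : (3 : F) = 0
  · -- characteristic 3: two isolated tori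
    have h3q : 3 ∣ q := by
      obtain ⟨p, hp⟩ := CharP.exists F
      obtain ⟨n, hpp, hn⟩ := FiniteField.card F p
      have h1 : p ∣ 3 := (CharP.cast_eq_zero_iff F p 3).1 (by exact_mod_cast h3)
      have h2 := (Nat.prime_dvd_prime_iff_eq hpp Nat.prime_three).1 h1
      rw [hq, hn, h2]
      exact dvd_pow_self 3 n.pos.ne'
    have hn3 : ¬ 3 ∣ N3 := by
      intro h
      have h1 : (3 : ℤ) ∣ 1 + (q : ℤ) + (q : ℤ) ^ 2 := by rw [← hN3]; exact_mod_cast h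
      have h2 : (3 : ℤ) ∣ (q : ℤ) := by exact_mod_cast h3q
      have h3 : (3 : ℤ) ∣ 1 := by
        have e : (1 : ℤ) = (1 + (q : ℤ) + (q : ℤ) ^ 2) - (q : ℤ) * (1 + q) := by ring
        rw [e]
        exact dvd_sub h1 (h2.mul_right _)
      norm_num at h3
    have hn6 : ¬ 3 ∣ N6 := by
      intro h
      have h1 : (3 : ℤ) ∣ 1 - (q : ℤ) + (q : ℤ) ^ 2 := by rw [← hN6]; exact_mod_cast h
      have h2 : (3 : ℤ) ∣ (q : ℤ) := by exact_mod_cast h3q
      have h3 : (3 : ℤ) ∣ 1 := by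
        have e : (1 : ℤ) = (1 - (q : ℤ) + (q : ℤ) ^ 2) + (q : ℤ) * (1 - q) := by ring
        rw [e]
        exact dvd_add h1 (h2.mul_right _)
      norm_num at h3
    refine szep_of_two (p := 3) h3lt h6lt (exact_G2_3 rfl hN3 hn3) (exact_G2_6 rfl hN6 hn6) ?_ Nat.prime_three ?_
      hn3 hn6
    · intro h
      have h1 : (N3 : ℤ) = N6 := by rw [h]
      rw [hN3, hN6] at h1
      linarith
    · -- `3 ∣ |G|`
      rw [Cfsg.Agent.S1059.result (F := F) rfl, ← hq]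
      exact Dvd.dvd.mul_right (Dvd.dvd.mul_right (dvd_pow h3q (by norm_num)) _) _
  · have h3q := hmod3 h3
    by_cases h1 : q % 3 = 1
    · -- `T₆`
      have hn6 : ¬ 3 ∣ N6 := by
        intro h
        have h4 : (3 : ℤ) ∣ 1 - (q : ℤ) + (q : ℤ) ^ 2 := by rw [← hN6]; exact_mod_cast h
        have h5 : ((q : ℤ)) % 3 = 1 := by exact_mod_cast h1
        obtain ⟨k, hk⟩ : ∃ k : ℤ, (q : ℤ) = 3 * k + 1 := ⟨(q : ℤ) / 3, by omega⟩
        rw [hk] at h4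
        have e : 1 - (3 * k + 1) + (3 * k + 1) ^ 2 = 3 * (3 * k ^ 2 + k) + 1 := by ring
        rw [e] at h4
        omega
      exact szep_of_index h6lt (exact_G2_6 rfl hN6 hn6) (center_eq_bot hna) fun H hH =>
        lt_of_lt_of_le h6le (hidx h3 H hH)
    · have h2 : q % 3 = 2 := by omega
      have hn3 : ¬ 3 ∣ N3 := by
        intro h
        have h4 : (3 : ℤ) ∣ 1 + (q : ℤ) + (q : ℤ) ^ 2 := by rw [← hN3]; exact_mod_cast h
        obtain ⟨k, hk⟩ : ∃ k : ℤ, (q : ℤ) = 3 * k + 2 := ⟨(q : ℤ) / 3, by omega⟩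
        rw [hk] at h4
        have e : 1 + (3 * k + 2) + (3 * k + 2) ^ 2 = 3 * (3 * k ^ 2 + 5 * k + 2) + 1 := by ring
        rw [e] at h4
        omega
      exact szep_of_index h3lt (exact_G2_3 rfl hN3 hn3) (center_eq_bot hna) fun H hH =>
        lt_of_lt_of_le h3le (hidx h3 H hH)

/-! ### `F₄` -/

theorem f4 (hs : IsSimpleGroup ↥(chevF4.group F)) (hna : ¬ IsMulCommutative ↥(chevF4.group F)) :
    Szep ↥(chevF4.group F) := by
  have := finite_chev (F := F) chevF4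
  set q := Fintype.card F with hq
  have hq2 : 2 ≤ q := Fintype.one_lt_card
  obtain ⟨N, hN⟩ := H129.IsoTw.exists_N12 (q := q) (by omega)
  obtain ⟨h1, h2⟩ := n12_le hq2 hN
  refine szep_of_index h1 (exact_F4_12 rfl hN) (center_eq_bot hna) fun H hH => lt_of_le_of_lt h2 ?_
  by_cases h3 : (2 : F) = 0
  · have : CharP F 2 := CharTwo.of_one_ne_zero_of_two_eq_zero one_ne_zero h3
    have h4 := H934.HeisF4Even.main hs H hH
    rw [← hq] at h4
    have h5 : 8 ≤ q ^ 3 := by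
      calc 8 = 2 ^ 3 := by norm_num
        _ ≤ q ^ 3 := Nat.pow_le_pow_left hq2 3
    have h6 : 16 ≤ q ^ 4 := by
      calc 16 = 2 ^ 4 := by norm_num
        _ ≤ q ^ 4 := Nat.pow_le_pow_left hq2 4
    have h7 : q ^ 8 * 7 ≤ q ^ 8 * (q ^ 3 - 1) := Nat.mul_le_mul_left _ (by omega)
    have h8 : q ^ 8 = q ^ 4 * q ^ 4 := by ring
    nlinarith
  · have h4 := H934.HeisF4G2.sq_le_F4 h3 hs H hH
    rw [← hq] at h4
    apply sq_lt
    refine lt_of_lt_of_le ?_ h4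
    calc (q ^ 4) ^ 2 = q ^ 8 := by ring
      _ < q ^ 16 := Nat.pow_lt_pow_right (by omega) (by norm_num)

/-! ### `E₆` -/

theorem e6 (hs : IsSimpleGroup ↥(chevE6.group F)) (hna : ¬ IsMulCommutative ↥(chevE6.group F)) :
    Szep ↥(chevE6.group F) := by
  have := finite_chev (F := F) chevE6
  set q := Fintype.card F with hq
  have hq2 : 2 ≤ q := Fintype.one_lt_card
  obtain ⟨N, hN⟩ : ∃ N : ℕ, N = q ^ 6 + q ^ 3 + 1 := ⟨_, rfl⟩
  have hN' : (N : ℤ) = 1 + (q : ℤ) ^ 3 + (q : ℤ) ^ 6 := by rw [hN]; push_cast; ring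
  have h8 : 8 ≤ q ^ 3 := by
    calc 8 = 2 ^ 3 := by norm_num
      _ ≤ q ^ 3 := Nat.pow_le_pow_left hq2 3
  have hg : Nat.gcd 3 (q - 1) ≤ 3 := Nat.le_of_dvd (by norm_num) (Nat.gcd_dvd_left _ _)
  have hg0 : 0 < Nat.gcd 3 (q - 1) := Nat.gcd_pos_of_pos_left _ (by norm_num)
  have h1 : 1 < N / Nat.gcd 3 (q - 1) := by
    refine lt_of_lt_of_le (b := N / 3) ?_ (Nat.div_le_div_left hg hg0)
    rw [Nat.lt_div_iff_mul_lt (by norm_num)]
    omega
  have h2 : N / Nat.gcd 3 (q - 1) ≤ N := Nat.div_le_self _ _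
  refine szep_of_index h1 (exact_E6_9 rfl hN') (center_eq_bot hna) fun H hH => lt_of_le_of_lt h2 ?_
  have h3 := H934.HeisE6.two_mul_le hs H hH
  rw [← hq] at h3
  refine lt_of_lt_of_le ?_ h3
  have h4 : q ^ 3 < q ^ 11 := Nat.pow_lt_pow_right (by omega) (by norm_num)
  have h5 : q ^ 6 < q ^ 11 := Nat.pow_lt_pow_right (by omega) (by norm_num)
  have h6 : q ^ 3 < q ^ 6 := Nat.pow_lt_pow_right (by omega) (by norm_num)
  omega

/-! ### `E₈` -/

theorem e8 (hs : IsSimpleGroup ↥(chevE8.group F)) (hna : ¬ IsMulCommutative ↥(chevE8.group F)) :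
    Szep ↥(chevE8.group F) := by
  have := finite_chev (F := F) chevE8
  set q := Fintype.card F with hq
  have hq2 : 2 ≤ q := Fintype.one_lt_card
  obtain ⟨N, hN⟩ : ∃ N : ℕ, (N : ℤ) = 1 - (q : ℤ) ^ 4 + (q : ℤ) ^ 8 := by
    refine ⟨q ^ 8 - q ^ 4 + 1, ?_⟩
    have : q ^ 4 ≤ q ^ 8 := Nat.pow_le_pow_right (by omega) (by norm_num)
    push_cast [Nat.cast_sub this]
    ring
  have h4 : 16 ≤ q ^ 4 := by
    calc 16 = 2 ^ 4 := by norm_num
      _ ≤ q ^ 4 := Nat.pow_le_pow_left hq2 4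
  have h4' : (16 : ℤ) ≤ (q : ℤ) ^ 4 := by exact_mod_cast h4
  have h1 : 1 < N := by
    have e : (N : ℤ) = 1 + (q : ℤ) ^ 4 * ((q : ℤ) ^ 4 - 1) := by rw [hN]; ring
    have : (1 : ℤ) < N := by rw [e]; nlinarith
    exact_mod_cast this
  have h2 : N ≤ q ^ 8 := by
    have : (N : ℤ) ≤ (q : ℤ) ^ 8 := by rw [hN]; linarith
    exact_mod_cast this
  refine szep_of_index h1 (exact_E8_24 rfl hN) (center_eq_bot hna) fun H hH => lt_of_le_of_lt h2 ?_
  have h3 := H934.HeisE8.two_mul_le hs H hH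
  rw [← hq] at h3
  refine lt_of_lt_of_le ?_ h3
  have h5 : q ^ 8 < q ^ 29 := Nat.pow_lt_pow_right (by omega) (by norm_num)
  omega

/-! ### `²E₆` -/

theorem te6 {q : ℕ} (hqp : IsPrimePow q) (hF : Fintype.card F = q ^ 2) (hs : IsSimpleGroup ↥(twistedE6 F q))
    (hna : ¬ IsMulCommutative ↥(twistedE6 F q)) : Szep ↥(twistedE6 F q) := by
  have := finite_chev (F := F) chevE6
  have hq2 : 2 ≤ q := hqp.two_le
  obtain ⟨N, hN⟩ : ∃ N : ℕ, N = q ^ 6 - q ^ 3 + 1 := ⟨_, rfl⟩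
  have h36 : q ^ 3 ≤ q ^ 6 := Nat.pow_le_pow_right (by omega) (by norm_num)
  have hN' : (N : ℤ) = 1 - (q : ℤ) ^ 3 + (q : ℤ) ^ 6 := by
    rw [hN]
    push_cast [Nat.cast_sub h36]
    ring
  have h8 : 8 ≤ q ^ 3 := by
    calc 8 = 2 ^ 3 := by norm_num
      _ ≤ q ^ 3 := Nat.pow_le_pow_left hq2 3
  have h88 : 8 * q ^ 3 ≤ q ^ 6 := by
    calc 8 * q ^ 3 ≤ q ^ 3 * q ^ 3 := Nat.mul_le_mul_right _ h8
      _ = q ^ 6 := by ring
  have hg : Nat.gcd 3 (q + 1) ≤ 3 := Nat.le_of_dvd (by norm_num) (Nat.gcd_dvd_left _ _)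
  have hg0 : 0 < Nat.gcd 3 (q + 1) := Nat.gcd_pos_of_pos_left _ (by norm_num)
  have h1 : 1 < N / Nat.gcd 3 (q + 1) := by
    refine lt_of_lt_of_le (b := N / 3) ?_ (Nat.div_le_div_left hg hg0)
    rw [Nat.lt_div_iff_mul_lt (by norm_num)]
    omega
  have h2 : N / Nat.gcd 3 (q + 1) ≤ N := Nat.div_le_self _ _
  refine szep_of_index h1 (exact_tE6_18 hqp hF hN') (center_eq_bot hna) fun H hH => lt_of_le_of_lt h2 ?_
  have h3 := H934.HeisTwE6.bound_2E6 hqp hF hs H hH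
  apply sq_lt
  refine lt_of_lt_of_le ?_ h3
  have h5 : N ≤ q ^ 6 := by omega
  calc N ^ 2 ≤ (q ^ 6) ^ 2 := Nat.pow_le_pow_left h5 2
    _ = q ^ 12 := by ring
    _ < q ^ 22 := Nat.pow_lt_pow_right (by omega) (by norm_num)

/-! ### `³D₄` -/

theorem td4 {q : ℕ} (hqp : IsPrimePow q) (hF : Fintype.card F = q ^ 3) (hs : IsSimpleGroup ↥(twistedD4 F q))
    (hna : ¬ IsMulCommutative ↥(twistedD4 F q)) : Szep ↥(twistedD4 F q) := by
  have hq2 : 2 ≤ q := hqp.two_le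
  obtain ⟨N, hN⟩ := H129.IsoTw.exists_N12 (q := q) (by omega)
  obtain ⟨h1, h2⟩ := n12_le hq2 hN
  refine szep_of_index h1 (exact_tD4_12 hqp hF hN) (center_eq_bot hna) fun H hH => lt_of_le_of_lt h2 ?_
  have h3 := H934.HeisTwD4.bound_3D4 hqp hF hs H hH
  apply sq_lt
  refine lt_of_lt_of_le ?_ h3
  calc (q ^ 4) ^ 2 = q ^ 8 := by ring
    _ < q ^ 10 := Nat.pow_lt_pow_right (by omega) (by norm_num)

/-! ### `²F₄` -/

theorem tf4 {m : ℕ} (hm : 1 ≤ m) (hK : Fintype.card F = 2 ^ (2 * m + 1))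
    (hs : IsSimpleGroup ↥(twistedF4 F (2 ^ m))) (hna : ¬ IsMulCommutative ↥(twistedF4 F (2 ^ m))) :
    Szep ↥(twistedF4 F (2 ^ m)) := by
  have := finite_chev (F := F) chevF4
  have hle : twistedF4 F (2 ^ m) ≤ chevF4.group F :=
    H378.TwRowsF.genSubgroup_le_group Cfsg.Agent.BpExc.RowsUntw.f4T.inList _
  have : Finite ↥(twistedF4 F (2 ^ m)) := Finite.of_injective _ (Subgroup.inclusion_injective hle)
  set q := Fintype.card F with hq
  have hq8 : 8 ≤ q := by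
    rw [hK]
    calc 8 = 2 ^ 3 := by norm_num
      _ ≤ 2 ^ (2 * m + 1) := Nat.pow_le_pow_right (by norm_num) (by omega)
  obtain ⟨N, hN⟩ := H129.IsoTw.exists_N12 (q := q) (by omega)
  obtain ⟨h1, h2⟩ := n12_le (by omega) hN
  have hE := exact_F4_12 (F := F) rfl (by rw [← hq]; exact hN)
  obtain ⟨r, hr, hrN⟩ := Nat.exists_prime_and_dvd h1.ne'
  have : Fact r.Prime := ⟨hr⟩
  -- `r` divides the order
  have hrG : r ∣ Nat.card ↥(twistedF4 F (2 ^ m)) := by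
    rw [Cfsg.Agent.S1068.result hK, ← hK]
    refine Dvd.dvd.mul_left (hrN.trans ?_) _
    refine ⟨q ^ 2 + 1, ?_⟩
    have : ((q ^ 6 + 1 : ℕ) : ℤ) = ((N * (q ^ 2 + 1) : ℕ) : ℤ) := by
      push_cast
      rw [hN]
      ring
    exact_mod_cast this
  obtain ⟨k, hrk, hk⟩ := exact_of_hasCyc (hasCyc_of_injective (Subgroup.inclusion hle)
    (Subgroup.inclusion_injective _) hr hrG (hE.hasCyc hrN))
  obtain ⟨x, hx⟩ := exists_prime_orderOf_dvd_card' (G := ↥(twistedF4 F (2 ^ m))) r hrG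
  have hk1 : Nat.card ↥(centralizer ({x} : Set ↥(twistedF4 F (2 ^ m)))) = k :=
    CycExact.card_centralizer hr hrk hk hx
  have hx' : orderOf (Subgroup.inclusion hle x) = r := by
    rw [← hx]
    exact orderOf_injective _ (Subgroup.inclusion_injective hle) x
  have hN1 : Nat.card ↥(centralizer ({Subgroup.inclusion hle x} : Set ↥(chevF4.group F))) = N :=
    CycExact.card_centralizer hr hrN hE hx'
  have hkN : k ≤ N := by
    rw [← hk1, ← hN1]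
    refine Nat.card_le_card_of_injective (fun z : ↥(centralizer ({x} : Set ↥(twistedF4 F (2 ^ m)))) =>
      (⟨Subgroup.inclusion hle z, by
        rw [mem_cent, ← map_mul, ← map_mul, mem_cent.1 z.2]⟩ :
        ↥(centralizer ({Subgroup.inclusion hle x} : Set ↥(chevF4.group F))))) ?_
    intro a b hab
    have := congrArg Subtype.val hab
    exact Subtype.ext (Subgroup.inclusion_injective hle this)
  have hk0 : 1 < k := by
    have h3 : 0 < k := by rw [← hk1]; exact Nat.card_pos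
    exact lt_of_lt_of_le hr.one_lt (Nat.le_of_dvd h3 hrk)
  refine szep_of_index hk0 hk (center_eq_bot hna) fun H hH => lt_of_le_of_lt (hkN.trans h2) ?_
  have h3 := H934.HeisTwF4.bound_2F4 hm hK hs H hH
  apply sq_lt
  refine lt_of_lt_of_le ?_ h3
  rw [← hq]
  have h4 : q ^ 8 < q ^ 10 := Nat.pow_lt_pow_right (by omega) (by norm_num)
  calc (q ^ 4) ^ 2 = q ^ 8 := by ring
    _ < 4 * q ^ 10 := by omega

/-! ### `Sz` -/

theorem sz {m : ℕ} (hm : 1 ≤ m) (hF : Fintype.card F = 2 ^ (2 * m + 1)) : Szep ↥(Cfsg.Sz F m) := by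
  have h1 := Cfsg.Agent.S0333.result hm hF (2 ^ (2 * m + 1) + 2 ^ (m + 1) + 1) (by simp)
  have h2 := Cfsg.Agent.S0333.result hm hF (2 ^ (2 * m + 1) - 2 ^ (m + 1) + 1) (by simp)
  obtain ⟨U, hU1, hU2, hU3, -⟩ := h1
  obtain ⟨V, hV1, hV2, hV3, -⟩ := h2
  have h3 : 2 ^ (m + 1) < 2 ^ (2 * m + 1) := Nat.pow_lt_pow_right (by norm_num) (by omega)
  have h4 : 0 < 2 ^ (m + 1) := by positivity
  have h5 : 2 ∣ 2 ^ (m + 1) := dvd_pow_self 2 (by omega)
  have h6 : 2 ∣ 2 ^ (2 * m + 1) := dvd_pow_self 2 (by omega)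
  refine szep_of_two (p := 2) (m := 2 ^ (2 * m + 1) + 2 ^ (m + 1) + 1) (n := 2 ^ (2 * m + 1) - 2 ^ (m + 1) + 1)
    (by omega) (by omega) ⟨U, hU1, hU2, hU3⟩ ⟨V, hV1, hV2, hV3⟩ (by omega) Nat.prime_two ?_ (by omega) (by omega)
  rw [Cfsg.Agent.S0324.result hm hF]
  refine Dvd.dvd.mul_right (Dvd.dvd.mul_right ?_ _) _
  exact dvd_pow h6 (by norm_num)

/-! ### Ree -/

open Cfsg.Agent.H94.RankOne in
theorem ree_not_both {m : ℕ} (hm : 1 ≤ m) {r : ℕ} (hr : r.Prime)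
    (h1 : r ∣ 3 ^ (2 * m + 1) - 3 ^ (m + 1) + 1) (h2 : r ∣ 3 ^ (2 * m + 1) + 3 ^ (m + 1) + 1) : False := by
  obtain ⟨a1, a2, -, -⟩ := arith hm hr (Or.inl h1)
  have hp : 3 ^ (m + 1) < 3 ^ (2 * m + 1) := Nat.pow_lt_pow_right (by norm_num) (by omega)
  have h3 : r ∣ 2 * 3 ^ (m + 1) := by
    have h4 := Nat.dvd_sub h2 h1
    have e : 3 ^ (2 * m + 1) + 3 ^ (m + 1) + 1 - (3 ^ (2 * m + 1) - 3 ^ (m + 1) + 1) = 2 * 3 ^ (m + 1) := by omega
    rwa [e] at h4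
  rcases hr.dvd_mul.1 h3 with h | h
  · exact a1 ((Nat.prime_dvd_prime_iff_eq hr Nat.prime_two).1 h)
  · exact a2 ((Nat.prime_dvd_prime_iff_eq hr Nat.prime_three).1 (hr.dvd_of_dvd_pow h))

open Cfsg.Agent.H94.RankOne in
theorem ree_exact {m : ℕ} (hm : 1 ≤ m) (hK : Fintype.card F = 3 ^ (2 * m + 1)) {r : ℕ} (hr : r.Prime)
    (hrk : r ∣ 3 ^ (2 * m + 1) - 3 ^ (m + 1) + 1 ∨ r ∣ 3 ^ (2 * m + 1) + 3 ^ (m + 1) + 1) :
    ∃ k, r ∣ k ∧ 1 < k ∧ ¬ 3 ∣ k ∧ CycExact (RG F m) k ∧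
      (k ∣ 3 ^ (2 * m + 1) - 3 ^ (m + 1) + 1 ∨ k ∣ 3 ^ (2 * m + 1) + 3 ^ (m + 1) + 1) := by
  have hfin : Finite (RG F m) := inferInstance
  obtain ⟨k, hrk2, hk'⟩ := exact_of_hasCyc (ree_cyc' hm hK hr hrk)
  have hk := hk'
  -- an element of order `k`
  obtain ⟨T, hT1, hT2, -⟩ := hk'
  obtain ⟨g, hg⟩ := hT1.exists_generator
  have hgo : orderOf (g : RG F m) = k := by
    rw [Subgroup.orderOf_coe, ← hT2]
    exact orderOf_eq_card_of_forall_mem_zpowers hg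
  have hk0 : 0 < k := by rw [← hgo]; exact orderOf_pos _
  obtain ⟨a1, a2, a3, a4⟩ := arith hm hr hrk
  have h4 : k ∣ 3 ^ (2 * m + 1) - 3 ^ (m + 1) + 1 ∨ k ∣ 3 ^ (2 * m + 1) + 3 ^ (m + 1) + 1 := by
    rcases (S1159.result hm hK k).1 ⟨g, hgo⟩ with h6 | h6 | h6 | h6 | h6 | h6
    · exfalso
      have h7 : r ∣ 2 * 3 := hrk2.trans h6
      rcases hr.dvd_mul.1 h7 with h | h
      · exact a1 ((Nat.prime_dvd_prime_iff_eq hr Nat.prime_two).1 h)
      · exact a2 ((Nat.prime_dvd_prime_iff_eq hr Nat.prime_three).1 h)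
    · exfalso
      have h7 : r ∣ 3 * 3 := hrk2.trans h6
      rcases hr.dvd_mul.1 h7 with h | h
      · exact a2 ((Nat.prime_dvd_prime_iff_eq hr Nat.prime_three).1 h)
      · exact a2 ((Nat.prime_dvd_prime_iff_eq hr Nat.prime_three).1 h)
    · exact absurd (hrk2.trans h6) a3
    · exfalso
      refine a4 (hrk2.trans (h6.trans ?_))
      exact Nat.div_dvd_of_dvd (by
        have : 3 ^ (2 * m + 1) % 2 = 1 := by rw [Nat.pow_mod]; norm_num
        omega)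
    · exact Or.inl h6
    · exact Or.inr h6
  refine ⟨k, hrk2, lt_of_lt_of_le hr.one_lt (Nat.le_of_dvd hk0 hrk2), fun h3 => ?_, hk, h4⟩
  rcases h4 with h4 | h4
  · exact (arith hm Nat.prime_three (Or.inl (h3.trans h4))).2.1 rfl
  · exact (arith hm Nat.prime_three (Or.inr (h3.trans h4))).2.1 rfl

open Cfsg.Agent.H94.RankOne in
theorem ree {m : ℕ} (hm : 1 ≤ m) (hK : Fintype.card F = 3 ^ (2 * m + 1)) : Szep (RG F m) := by
  have hfin : Finite (RG F m) := inferInstance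
  have hp : 3 ^ (m + 1) < 3 ^ (2 * m + 1) := Nat.pow_lt_pow_right (by norm_num) (by omega)
  have hp0 : 0 < 3 ^ (m + 1) := by positivity
  obtain ⟨r, hr, hrk⟩ := Nat.exists_prime_and_dvd (show 3 ^ (2 * m + 1) - 3 ^ (m + 1) + 1 ≠ 1 by omega)
  obtain ⟨s, hs, hsk⟩ := Nat.exists_prime_and_dvd (show 3 ^ (2 * m + 1) + 3 ^ (m + 1) + 1 ≠ 1 by omega)
  obtain ⟨k, h1, h2, h3, h4, h5⟩ := ree_exact hm hK hr (Or.inl hrk)
  obtain ⟨l, i1, i2, i3, i4, i5⟩ := ree_exact hm hK hs (Or.inr hsk)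
  refine szep_of_two h2 i2 h4 i4 ?_ Nat.prime_three ?_ h3 i3
  · rintro rfl
    rcases h5 with h5 | h5
    · exact ree_not_both hm hs (i1.trans h5) hsk
    · exact ree_not_both hm hr hrk (h1.trans h5)
  · -- an element of order 3
    obtain ⟨g, hg⟩ := (S1159.result hm hK 3).2 (Or.inl (by norm_num))
    have := orderOf_dvd_natCard g
    rwa [hg] at this

end

/-! ### the families -/

variable {G : Type*} [Group G] [IsSimpleGroup G]

theorem szep_G2 (hG : ¬ IsMulCommutative G) (h : IsoChevG2 G) : Szep G := by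
  obtain ⟨F, _, _, hF, ⟨e⟩⟩ := h
  exact of_model hG e fun h1 h2 => g2 hF h1 h2

theorem szep_F4 (hG : ¬ IsMulCommutative G) (h : IsoF4 G) : Szep G := by
  obtain ⟨F, _, _, ⟨e⟩⟩ := h
  exact of_model hG e fun h1 h2 => f4 h1 h2

theorem szep_E6 (hG : ¬ IsMulCommutative G) (h : IsoChevE6 G) : Szep G := by
  obtain ⟨F, _, _, ⟨e⟩⟩ := h
  exact of_model hG e fun h1 h2 => e6 h1 h2

theorem szep_E8 (hG : ¬ IsMulCommutative G) (h : IsoE8 G) : Szep G := by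
  obtain ⟨F, _, _, ⟨e⟩⟩ := h
  exact of_model hG e fun h1 h2 => e8 h1 h2

theorem szep_2E6 (hG : ¬ IsMulCommutative G) (h : Iso2E6 G) : Szep G := by
  obtain ⟨F, _, _, q, hq, hF, ⟨e⟩⟩ := h
  exact of_model hG e fun h1 h2 => te6 hq hF h1 h2

theorem szep_3D4 (hG : ¬ IsMulCommutative G) (h : Iso3D4 G) : Szep G := by
  obtain ⟨F, _, _, q, hq, hF, ⟨e⟩⟩ := h
  exact of_model hG e fun h1 h2 => td4 hq hF h1 h2

theorem szep_2F4 (hG : ¬ IsMulCommutative G) (h : Iso2F4 G) : Szep G := by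
  obtain ⟨F, _, _, m, hm, hF, ⟨e⟩⟩ := h
  exact of_model hG e fun h1 h2 => tf4 hm hF h1 h2

theorem szep_Sz (h : IsoSuzuki G) : Szep G := by
  obtain ⟨F, _, _, m, hm, hF, ⟨e⟩⟩ := h
  obtain ⟨f⟩ := Cfsg.Agent.OddCyclic.ClaimC.SzIso.iso hm hF
  exact Szep.of_equiv (e.trans f.symm) (sz hm hF)

theorem szep_Ree (h : IsoRee G) : Szep G := by
  obtain ⟨F, _, _, m, hm, hF, ⟨e⟩⟩ := h
  exact Szep.of_equiv e (ree hm hF)

end Cfsg.Agent.H501.SzExc
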