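import Mathlib
import Cfsg.Agent.H501.Szep.Rows
import Cfsg.Agent.H501.Szep.E7
import Cfsg.Prelude.Def_Classification2

/-!
# Szep's conjecture for all exceptional families of Lie type (helper501, S2273)
-/

set_option autoImplicit false

namespace Cfsg.Agent.H501.SzExc

open Cfsg Cfsg.Lie Cfsg.Agent.H105.Sz

/-- **All exceptional families**, the Tits group being given separately. -/
theorem szep_exc {G : Type*} [Group G] [IsSimpleGroup G] (hG : ¬ IsMulCommutative G)
    (hT : IsoTits G → Szep G) (h : IsExceptionalLieType G) : Szep G := by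
  rcases h with h | h | h | h | h | h | h | h | h | h | h
  · exact szep_G2 hG h
  · exact szep_F4 hG h
  · exact szep_E6 hG h
  · exact szep_E7 h
  · exact szep_E8 hG h
  · exact szep_2E6 hG h
  · exact szep_3D4 hG h
  · exact szep_Sz h
  · exact szep_Ree h
  · exact szep_2F4 hG h
  · exact hT h

end Cfsg.Agent.H501.SzExc
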